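import Cfsg.Agent.H77.ZTransfer

/-!
Two maximal 2-locals of type `Σ₄ × ℤ₂` over `T`: the central involution lies outside `O²`.
-/

set_option autoImplicit false

namespace H16.ZN

open Cfsg H77.ZC

variable {X : Type*} [Group X] [Finite X] {P₁ V₁ : Subgroup X} {c₁ : X} {P₂ V₂ : Subgroup X} {c₂ : X}
  {T : Subgroup X} {z v w : X}

/-- A subgroup of index 2 in a Sylow 2-subgroup without involutions outside `V₁V₂` (case `T < S`). -/
theorem exists_cut_lt (f : Frame P₁ V₁ c₁ P₂ V₂ c₂ T z v w) {S : Sylow 2 X} (hTS : T ≤ (S : Subgroup X))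
    (hne : T ≠ (S : Subgroup X)) :
    ∃ Q : Subgroup X, Q ≤ (S : Subgroup X) ∧ Q.relIndex (S : Subgroup X) = 2 ∧
      ∀ q ∈ Q, orderOf q = 2 → q ∈ V₁ ⊔ V₂ := by
  have hSn := f.le_normalizer_T hTS hne
  obtain ⟨n, hnS, hnn, hnT⟩ := f.exists_outside hTS hne
  obtain ⟨y, hyS, hyT, hyinv⟩ : ∃ y ∈ (S : Subgroup X), y ∉ T ∧
      ∀ d ∈ V₁ ⊔ V₂, y * d * (y * d) ≠ 1 := by
    by_cases hex : ∃ x ∈ (S : Subgroup X), x ∉ T ∧ x * x = 1
    · obtain ⟨x, hxS, hxT, hxx⟩ := hex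
      refine ⟨x * c₁, mul_mem hxS (hTS f.cT), fun h => hxT ?_,
        fun d hd h => f.not_two_invol hTS hne hxS (hSn hxS) hxT hxx hd h⟩
      have := mul_mem h f.cT
      rwa [mul_assoc, f.cc, mul_one] at this
    · push Not at hex
      refine ⟨n, hnS, hnT, fun d hd => hex _ (mul_mem hnS (hTS (f.D_le_T hd))) fun h => hnT ?_⟩
      have := mul_mem h (inv_mem (f.D_le_T hd))
      rwa [mul_inv_cancel_right] at this
  have hyy : y * y ∈ V₁ ⊔ V₂ := f.sq_mem_D hTS hne hyS (hSn hyS) hyT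
  have hyD : y ∈ Subgroup.normalizer ((V₁ ⊔ V₂ : Subgroup X) : Set X) := f.normD hTS hne (hSn hyS)
  let Q : Subgroup X :=
    { carrier := {q | q ∈ V₁ ⊔ V₂ ∨ y⁻¹ * q ∈ V₁ ⊔ V₂}
      one_mem' := Or.inl (one_mem _)
      mul_mem' := by
        intro a b ha hb
        have hconj : ∀ d ∈ V₁ ⊔ V₂, y⁻¹ * d * y ∈ V₁ ⊔ V₂ := fun d hd => by
          have := (Subgroup.mem_normalizer_iff.1 (inv_mem hyD) d).1 hd
          rwa [inv_inv] at this
        rcases ha with ha | ha <;> rcases hb with hb | hb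
        · exact Or.inl (mul_mem ha hb)
        · right
          rw [show y⁻¹ * (a * b) = y⁻¹ * a * y * (y⁻¹ * b) by group]
          exact mul_mem (hconj a ha) hb
        · right
          rw [show y⁻¹ * (a * b) = y⁻¹ * a * b by group]
          exact mul_mem ha hb
        · left
          rw [show a * b = y * y * (y⁻¹ * (y⁻¹ * a) * y) * (y⁻¹ * b) by group]
          exact mul_mem (mul_mem hyy (hconj _ ha)) hb
      inv_mem' := by
        intro a ha
        rcases ha with ha | ha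
        · exact Or.inl (inv_mem ha)
        · right
          rw [show y⁻¹ * a⁻¹ = y⁻¹ * (y⁻¹ * a)⁻¹ * y * (y * y)⁻¹ by group]
          refine mul_mem ?_ (inv_mem hyy)
          have := (Subgroup.mem_normalizer_iff.1 (inv_mem hyD) _).1 (inv_mem ha)
          rwa [inv_inv] at this }
  have hQmem : ∀ q, q ∈ Q ↔ q ∈ V₁ ⊔ V₂ ∨ y⁻¹ * q ∈ V₁ ⊔ V₂ := fun q => Iff.rfl
  have hQS : Q ≤ (S : Subgroup X) := by
    intro q hq
    rcases (hQmem q).1 hq with h | h
    · exact hTS (f.D_le_T h)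
    · have := mul_mem hyS (hTS (f.D_le_T h))
      rwa [mul_inv_cancel_left] at this
  have hcQ : c₁ ∉ Q := by
    intro h
    rcases (hQmem _).1 h with h | h
    · exact f.c_notD h
    · apply hyT
      have := mul_mem f.cT (inv_mem (f.D_le_T h))
      rwa [show c₁ * (y⁻¹ * c₁)⁻¹ = y by group] at this
  have hidx : Q.relIndex (S : Subgroup X) = 2 := by
    rw [Subgroup.relIndex_eq_two_iff]
    refine ⟨c₁, hTS f.cT, fun b hb => ?_⟩
    have hnot : ¬ (b * c₁ ∈ Q ∧ b ∈ Q) := fun ⟨h1, h2⟩ => hcQ (by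
      have := mul_mem (inv_mem h2) h1
      rwa [inv_mul_cancel_left] at this)
    by_cases hbQ : b ∈ Q
    · exact Or.inr ⟨hbQ, fun h => hnot ⟨h, hbQ⟩⟩
    refine Or.inl ⟨?_, hbQ⟩
    rw [hQmem]
    by_cases hbT : b ∈ T
    · left
      rw [f.c_comm hbT]
      exact (f.memT hbT).resolve_left fun h => hbQ ((hQmem b).2 (Or.inl h))
    · right
      have hyb : y⁻¹ * b ∈ T := f.mul_mem_T (inv_mem hyS) (inv_mem (hSn hyS))
        (fun h => hyT (by simpa using inv_mem h)) hb (hSn hb) hbT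
      rw [← mul_assoc, f.c_comm hyb]
      exact (f.memT hyb).resolve_left fun h => hbQ ((hQmem b).2 (Or.inr h))
  refine ⟨Q, hQS, hidx, fun q hq hq2 => ?_⟩
  rcases (hQmem q).1 hq with h | h
  · exact h
  · exfalso
    have := hyinv _ h
    rw [mul_inv_cancel_left] at this
    exact this (mul_self_of_orderOf hq2)

/-- `c₁ ∉ O²(X)`. -/
theorem c_not_mem_residual (f : Frame P₁ V₁ c₁ P₂ V₂ c₂ T z v w) : c₁ ∉ Cfsg.pResidual 2 X := by
  haveI : Fact (Nat.Prime 2) := ⟨Nat.prime_two⟩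
  obtain ⟨S, hTS⟩ := f.pair.t₁.2.1.exists_le_sylow
  obtain ⟨Q, hQS, hQi, hQinv⟩ : ∃ Q : Subgroup X, Q ≤ (S : Subgroup X) ∧
      Q.relIndex (S : Subgroup X) = 2 ∧ ∀ q ∈ Q, orderOf q = 2 → q ∈ V₁ ⊔ V₂ := by
    by_cases hne : T = (S : Subgroup X)
    · exact ⟨V₁ ⊔ V₂, hne ▸ f.D_le_T, hne ▸ f.relIndex_D, fun q hq _ => hq⟩
    · exact exists_cut_lt f hTS hne
  rcases H6.thompson_transfer S Q hQS hQi c₁ f.pair.s₁.c2 with ⟨M, hMn, hM, hcM⟩ | ⟨g, hg⟩
  · intro hc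
    apply hcM
    have hle : Cfsg.pResidual 2 X ≤ M := by
      rw [Cfsg.pResidual, Subgroup.closure_le]
      intro x hx
      rw [SetLike.mem_coe, ← QuotientGroup.eq_one_iff, ← orderOf_eq_one_iff]
      refine Nat.eq_one_of_dvd_coprimes hx (orderOf_map_dvd (QuotientGroup.mk' M) x) ?_
      calc orderOf ((QuotientGroup.mk' M) x) ∣ Nat.card (X ⧸ M) := orderOf_dvd_natCard _
        _ = 2 := hM
    exact hle hc
  · exfalso
    have hy := orderOf_conj_two g f.pair.s₁.c2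
    obtain ⟨k, hk⟩ := f.inv_D_conj (hQinv _ hg hy) hy
    refine f.not_conj S hTS ⟨g⁻¹ * k, ?_⟩
    calc g⁻¹ * k * z * (g⁻¹ * k)⁻¹ = g⁻¹ * (k * z * k⁻¹) * g := by group
      _ = c₁ := by rw [hk]; group

end H16.ZN
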