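import Cfsg.Agent.H16.ZN.Cut

/-!
Maximal 2-local subgroups `Σ₄` of a subgroup containing the four-group of a maximal 2-local.
-/

set_option autoImplicit false

namespace H16.ZN

open Cfsg H77.ZC

set_option maxRecDepth 100000 in
theorem four_sub_out : ∀ g : Equiv.Perm (Fin 4), ¬ inK4 g →
    ¬ (g * g * (g * g) = 1) ∨
      ∃ h : Equiv.Perm (Fin 4), ¬ (g * (h * g * h⁻¹) * (g * (h * g * h⁻¹)) *
        (g * (h * g * h⁻¹) * (g * (h * g * h⁻¹))) = 1) := by
  decide +kernel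

set_option maxRecDepth 100000 in
theorem card_pow_four : 8 < (Finset.univ.filter fun g : Equiv.Perm (Fin 4) =>
    g * g * (g * g) = 1).card := by
  decide +kernel

/-- A normal subgroup of 2-power order of `Σ₄` lies in the four-group. -/
theorem le_k4 (N : Subgroup (Equiv.Perm (Fin 4))) [N.Normal] (hN : IsPGroup 2 ↥N) : N ≤ k4 := by
  classical
  have h4 : ∀ g ∈ N, g * g * (g * g) = 1 := by
    intro g hg
    obtain ⟨k, hk⟩ := hN ⟨g, hg⟩
    have hk' : g ^ 2 ^ k = 1 := congrArg Subtype.val hk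
    obtain ⟨j, hj, hje⟩ := (Nat.dvd_prime_pow Nat.prime_two).1 (orderOf_dvd_of_pow_eq_one hk')
    have hdvd : orderOf g ∣ 24 := by
      have h := orderOf_dvd_natCard g
      rwa [Nat.card_perm, Nat.card_eq_fintype_card, Fintype.card_fin] at h
    have hj3 : j ≤ 3 := by
      by_contra hc
      rw [hje] at hdvd
      have := (pow_dvd_pow 2 (show 4 ≤ j by omega)).trans hdvd
      norm_num at this
    have hdec : ∀ g : Equiv.Perm (Fin 4), g * g * (g * g) * (g * g * (g * g)) = 1 →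
        g * g * (g * g) = 1 := by decide +kernel
    refine hdec g ?_
    have h8 : g ^ 8 = 1 :=
      orderOf_dvd_iff_pow_eq_one.1 (hje ▸ (show 2 ^ j ∣ 8 from pow_dvd_pow 2 hj3))
    rw [← h8]; simp only [pow_succ, pow_zero, one_mul, mul_assoc]
  intro g hg
  by_contra hgk
  rcases four_sub_out g hgk with h | ⟨h, hh⟩
  · exact h (h4 g hg)
  · exact hh (h4 _ (mul_mem hg (Subgroup.Normal.conj_mem inferInstance g hg h)))

/-- `Σ₄` has no normal subgroup of order 8. -/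
theorem no_eight (N : Subgroup (Equiv.Perm (Fin 4))) [N.Normal] (hN : Nat.card ↥N = 8) : False := by
  have hle := le_k4 N (IsPGroup.of_card (n := 3) (by rw [hN]; norm_num))
  have := Subgroup.card_le_of_le hle
  rw [hN, natCard_k4] at this
  omega

variable {G : Type*} [Group G] [Finite G]

/-- A normal 2-subgroup of `K ≅ Σ₄` lies in its four-group. -/
theorem two_normal_le {K V U : Subgroup G} (e : ↥K ≃* Equiv.Perm (Fin 4)) (hVK : V ≤ K)
    (hVn : K ≤ Subgroup.normalizer (V : Set G)) (hV4 : Nat.card ↥V = 4) (hUK : U ≤ K)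
    (hUn : K ≤ Subgroup.normalizer (U : Set G)) (hU : IsPGroup 2 ↥U) : U ≤ V := by
  have himg : ∀ W : Subgroup G, W ≤ K → K ≤ Subgroup.normalizer (W : Set G) → IsPGroup 2 ↥W →
      (W.subgroupOf K).map e.toMonoidHom ≤ k4 := by
    intro W hWK hWn hW
    haveI : (W.subgroupOf K).Normal := Subgroup.normal_subgroupOf_of_le_normalizer hWn
    haveI : ((W.subgroupOf K).map e.toMonoidHom).Normal := Subgroup.Normal.map inferInstance _ e.surjective
    exact le_k4 _ ((hW.comap_subtype (K := K)).map _)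
  have hVp : IsPGroup 2 ↥V := IsPGroup.of_card (n := 2) (by rw [hV4]; norm_num)
  have hVk : (V.subgroupOf K).map e.toMonoidHom = k4 := by
    refine Subgroup.eq_of_le_of_card_ge (himg V hVK hVn hVp) ?_
    rw [natCard_k4, Subgroup.card_map_of_injective e.injective,
      Nat.card_congr (Subgroup.subgroupOfEquivOfLe hVK).toEquiv, hV4]
  have h := (himg U hUK hUn hU).trans hVk.ge
  intro u hu
  obtain ⟨y, hy, hye⟩ := h ⟨⟨u, hUK hu⟩, Subgroup.mem_subgroupOf.2 hu, rfl⟩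
  have := e.injective hye
  rw [← show (y : G) = u from congrArg Subtype.val this]
  exact Subgroup.mem_subgroupOf.1 hy

/-- A 2-group in which a four-group is self-normalizing among its normalised subgroups. -/
theorem normalised_le {H K V U : Subgroup G} (hKH : K ≤ H) (e : ↥K ≃* Equiv.Perm (Fin 4)) (hVK : V ≤ K)
    (hVn : K ≤ Subgroup.normalizer (V : Set G)) (hV4 : Nat.card ↥V = 4)
    (hN : ∀ g ∈ H, g ∈ Subgroup.normalizer (V : Set G) → g ∈ K) (hUH : U ≤ H) (hU : IsPGroup 2 ↥U)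
    (hUn : K ≤ Subgroup.normalizer (U : Set G)) : U ≤ V := by
  haveI : Fact (Nat.Prime 2) := ⟨Nat.prime_two⟩
  have hVp : IsPGroup 2 ↥V := IsPGroup.of_card (n := 2) (by rw [hV4]; norm_num)
  set W := U ⊔ V with hW
  have hWp : IsPGroup 2 ↥W := by
    rw [hW]
    exact hU.to_sup_of_normal_left' hVp (hVK.trans hUn)
  have hWH : W ≤ H := sup_le hUH (hVK.trans hKH)
  have hWn : K ≤ Subgroup.normalizer (W : Set G) := Cfsg.Comp.sup_le_normalizer hUn hVn
  set N := W ⊓ Subgroup.normalizer (V : Set G) with hNdef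
  have hNK : N ≤ K := fun g hg => hN g (hWH hg.1) hg.2
  have hNn : K ≤ Subgroup.normalizer (N : Set G) :=
    Cfsg.Comp.inf_le_normalizer hWn (hVn.trans Subgroup.le_normalizer)
  have hNV : N ≤ V := two_normal_le e hVK hVn hV4 hNK hNn (hWp.to_le inf_le_left)
  suffices h : W = V from h ▸ le_sup_left
  by_contra hne
  have hlt : V < W := lt_of_le_of_ne le_sup_right (Ne.symm hne)
  haveI : Group.IsNilpotent ↥W := hWp.isNilpotent
  have hsub : V.subgroupOf W < ⊤ := by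
    rw [lt_top_iff_ne_top, Ne, Subgroup.subgroupOf_eq_top]
    exact fun h => hne (le_antisymm h le_sup_right)
  have hnc := Group.normalizerCondition_of_isNilpotent (G := ↥W) _ hsub
  obtain ⟨x, hx, hxV⟩ := SetLike.exists_of_lt hnc
  apply hxV
  rw [Subgroup.mem_subgroupOf]
  refine hNV ⟨x.2, ?_⟩
  rw [← Subgroup.subgroupOf_normalizer_eq (le_sup_right : V ≤ W)] at hx
  exact Subgroup.mem_subgroupOf.1 hx

/-- `K ≅ Σ₄` is a maximal 2-local subgroup of `H`. -/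
theorem isMaximalTwoLocal_sub {H K V : Subgroup G} (hKH : K ≤ H) (e : ↥K ≃* Equiv.Perm (Fin 4))
    (hF : Four K V) (hN : ∀ g ∈ H, g ∈ Subgroup.normalizer (V : Set G) → g ∈ K) :
    Cfsg.IsMaximalTwoLocal (K.subgroupOf H) := by
  have hVH : V ≤ H := hF.le.trans hKH
  have hVp : IsPGroup 2 ↥(V.subgroupOf H) :=
    (IsPGroup.of_card (p := 2) (n := 2) (by rw [hF.card]; norm_num) : IsPGroup 2 ↥V).comap_subtype
  have hVne : V.subgroupOf H ≠ ⊥ := by
    rw [Ne, Subgroup.subgroupOf_eq_bot, disjoint_iff, inf_eq_left.2 hVH]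
    intro h
    have := hF.card
    rw [h, Subgroup.card_bot] at this
    omega
  have hnorm : ∀ U : Subgroup G, U ≤ H → ∀ g : ↥H,
      g ∈ Subgroup.normalizer ((U.subgroupOf H : Subgroup ↥H) : Set ↥H) ↔
        (g : G) ∈ Subgroup.normalizer (U : Set G) := by
    intro U hU g
    rw [← Subgroup.subgroupOf_normalizer_eq hU, Subgroup.mem_subgroupOf]
  have hKeq : K.subgroupOf H = Subgroup.normalizer ((V.subgroupOf H : Subgroup ↥H) : Set ↥H) := by
    ext g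
    rw [hnorm V hVH g, Subgroup.mem_subgroupOf]
    exact ⟨fun h => hF.norm h, fun h => hN g g.2 h⟩
  refine ⟨⟨_, hVp, hVne, hKeq⟩, ?_⟩
  rintro L ⟨U, hU, hU1, rfl⟩ hle
  set U' := U.map H.subtype with hU'
  have hU'H : U' ≤ H := Subgroup.map_subtype_le _
  have hUU : U'.subgroupOf H = U := Subgroup.comap_map_eq_self_of_injective (Subgroup.subtype_injective H) U
  have hKn : K ≤ Subgroup.normalizer (U' : Set G) := by
    intro k hk
    have := hle (Subgroup.mem_subgroupOf.2 (show ((⟨k, hKH hk⟩ : ↥H) : G) ∈ K from hk))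
    rw [← hUU, hnorm U' hU'H] at this
    exact this
  have hU'V : U' ≤ V :=
    normalised_le hKH e hF.le hF.norm hF.card hN hU'H (hU.map _) hKn
  have hVU : V ≤ U' := by
    obtain ⟨u, hu, hu1⟩ : ∃ u ∈ U', u ≠ 1 := by
      by_contra hc
      push Not at hc
      exact hU1 (by rw [← hUU, (Subgroup.eq_bot_iff_forall _).2 hc]; simp)
    intro b hb
    by_cases hb1 : b = 1
    · rw [hb1]; exact one_mem _
    obtain ⟨g, hg, hgu⟩ := hF.trans u (hU'V hu) b hb hu1 hb1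
    rw [← hgu]
    exact (Subgroup.mem_normalizer_iff.1 (hKn hg) u).1 hu
  rw [← hUU, le_antisymm hU'V hVU, hKeq]

/-- The two intersections meet in a group of order 8. -/
theorem card_inf_eight {K₁ K₂ D : Subgroup G} (h₁ : Nat.card ↥K₁ = 24) (h₂ : Nat.card ↥K₂ = 24)
    (hne : K₁ ≠ K₂) (hD : Nat.card ↥D = 8) (hD₁ : D ≤ K₁) (hD₂ : D ≤ K₂) :
    Nat.card ↥(K₁ ⊓ K₂) = 8 := by
  obtain ⟨m, hm⟩ : 8 ∣ Nat.card ↥(K₁ ⊓ K₂) := hD ▸ Subgroup.card_dvd_of_le (le_inf hD₁ hD₂)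
  have hdvd : 8 * m ∣ 8 * 3 := by
    rw [← hm]
    show Nat.card ↥(K₁ ⊓ K₂) ∣ 24
    exact h₁ ▸ Subgroup.card_dvd_of_le inf_le_left
  rcases (Nat.dvd_prime Nat.prime_three).1 (Nat.dvd_of_mul_dvd_mul_left (by norm_num) hdvd) with h | h
  · rw [hm, h]
  · exfalso
    apply hne
    have e₁ := Subgroup.eq_of_le_of_card_ge (inf_le_left : K₁ ⊓ K₂ ≤ K₁) (by rw [h₁, hm, h])
    have e₂ := Subgroup.eq_of_le_of_card_ge (inf_le_right : K₁ ⊓ K₂ ≤ K₂) (by rw [h₂, hm, h])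
    rw [← e₁, e₂]

theorem card_of_iso {K : Subgroup G} (e : ↥K ≃* Equiv.Perm (Fin 4)) : Nat.card ↥K = 24 := by
  rw [Nat.card_congr e.toEquiv, Nat.card_perm, Nat.card_eq_fintype_card, Fintype.card_fin]
  rfl

/-- The pair in `H`. -/
theorem pair_sub {H K₁ K₂ V₁ V₂ D : Subgroup G} (hK₁ : K₁ ≤ H) (hK₂ : K₂ ≤ H)
    (e₁ : ↥K₁ ≃* Equiv.Perm (Fin 4)) (e₂ : ↥K₂ ≃* Equiv.Perm (Fin 4)) (hF₁ : Four K₁ V₁)
    (hF₂ : Four K₂ V₂) (hN₁ : ∀ g ∈ H, g ∈ Subgroup.normalizer (V₁ : Set G) → g ∈ K₁)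
    (hN₂ : ∀ g ∈ H, g ∈ Subgroup.normalizer (V₂ : Set G) → g ∈ K₂) (hne : K₁ ≠ K₂)
    (hD : Nat.card ↥D = 8) (hD₁ : D ≤ K₁) (hD₂ : D ≤ K₂) :
    ∃ M₁ M₂ : Subgroup H, M₁ ≠ M₂ ∧ Cfsg.IsMaximalTwoLocal M₁ ∧ Cfsg.IsMaximalTwoLocal M₂ ∧
      Nonempty (M₁ ≃* Equiv.Perm (Fin 4)) ∧ Nonempty (M₂ ≃* Equiv.Perm (Fin 4)) ∧
        Nat.card ↥(M₁ ⊓ M₂) = 8 := by
  refine ⟨K₁.subgroupOf H, K₂.subgroupOf H, fun h => hne ?_, isMaximalTwoLocal_sub hK₁ e₁ hF₁ hN₁,
    isMaximalTwoLocal_sub hK₂ e₂ hF₂ hN₂, ⟨(Subgroup.subgroupOfEquivOfLe hK₁).trans e₁⟩,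
    ⟨(Subgroup.subgroupOfEquivOfLe hK₂).trans e₂⟩, ?_⟩
  · have := congrArg (fun M : Subgroup H => M.map H.subtype) h
    simpa [Subgroup.map_subgroupOf_eq_of_le hK₁, Subgroup.map_subgroupOf_eq_of_le hK₂] using this
  · rw [← card_inf_eight (card_of_iso e₁) (card_of_iso e₂) hne hD hD₁ hD₂]
    refine Nat.card_congr ?_
    rw [show K₁.subgroupOf H ⊓ K₂.subgroupOf H = (K₁ ⊓ K₂).subgroupOf H from
      (Subgroup.comap_inf _ _ _).symm]
    exact (Subgroup.subgroupOfEquivOfLe (inf_le_left.trans hK₁)).toEquiv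

/-- `P ≅ Σ₄` lies in `O²` once it contains a dihedral group lying in `O²`. -/
theorem le_residual {P D : Subgroup G} (e : ↥P ≃* Equiv.Perm (Fin 4)) (hDP : D ≤ P)
    (hD : Nat.card ↥D = 8) (hDr : D ≤ Cfsg.pResidual 2 G) : P ≤ Cfsg.pResidual 2 G := by
  haveI : Fact (Nat.Prime 3) := ⟨Nat.prime_three⟩
  obtain ⟨⟨g, hg⟩, hg3⟩ := exists_prime_orderOf_dvd_card' (G := ↥P) 3 (by rw [card_of_iso e]; norm_num)
  have hg3' : orderOf g = 3 := by rw [← hg3, Subgroup.orderOf_mk]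
  have hgr : g ∈ Cfsg.pResidual 2 G := H5.mem_pResidual_of_coprime (by rw [hg3']; norm_num)
  set A := P ⊓ Cfsg.pResidual 2 G with hA
  have h8 : 8 ∣ Nat.card ↥A := hD ▸ Subgroup.card_dvd_of_le (le_inf hDP hDr)
  have h3 : 3 ∣ Nat.card ↥A := by
    have h := (Subgroup.orderOf_coe (⟨g, hg, hgr⟩ : ↥A)).dvd.trans (orderOf_dvd_natCard _)
    exact hg3' ▸ h
  have h24 : 24 ∣ Nat.card ↥A := Nat.Coprime.mul_dvd_of_dvd_of_dvd (m := 8) (n := 3) (by norm_num) h8 h3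
  have : A = P := Subgroup.eq_of_le_of_card_ge inf_le_left
    (by rw [card_of_iso e]; exact Nat.le_of_dvd Nat.card_pos h24)
  exact this ▸ inf_le_right

/-- `P ∩ O² ≅ Σ₄` for `P ≅ Σ₄ × ℤ₂` with centre outside `O²`. -/
theorem inf_residual_iso {P V D : Subgroup G} {c : G} (s : Side P V c)
    (e : ↥P ≃* Equiv.Perm (Fin 4) × Multiplicative (ZMod 2)) (hc : ∀ x ∈ P, (∀ p ∈ P, p * x = x * p) →
      x ∈ Cfsg.pResidual 2 G → x = 1)
    (hDP : D ≤ P) (hD : Nat.card ↥D = 8) (hDr : D ≤ Cfsg.pResidual 2 G) :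
    Nonempty (↥(P ⊓ Cfsg.pResidual 2 G) ≃* Equiv.Perm (Fin 4)) := by
  haveI : Fact (Nat.Prime 3) := ⟨Nat.prime_three⟩
  set A := P ⊓ Cfsg.pResidual 2 G with hA
  set π : ↥A →* Equiv.Perm (Fin 4) :=
    ((MonoidHom.fst _ _).comp e.toMonoidHom).comp (Subgroup.inclusion inf_le_left) with hπ
  have hinj : Function.Injective π := by
    rw [injective_iff_map_eq_one]
    intro a ha
    have ha' : (e (Subgroup.inclusion inf_le_left a)).1 = 1 := ha
    apply Subtype.ext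
    refine hc a a.2.1 (fun p hp => ?_) a.2.2
    have h : e (⟨p, hp⟩ * Subgroup.inclusion inf_le_left a) =
        e (Subgroup.inclusion inf_le_left a * ⟨p, hp⟩) := by
      rw [map_mul, map_mul]
      exact Prod.ext (by simp [ha']) (mul_comm _ _)
    exact congrArg Subtype.val (e.injective h)
  obtain ⟨⟨g, hg⟩, hg3⟩ := exists_prime_orderOf_dvd_card' (G := ↥P) 3 (by rw [s.card48]; norm_num)
  have hg3' : orderOf g = 3 := by rw [← hg3, Subgroup.orderOf_mk]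
  have hgr : g ∈ Cfsg.pResidual 2 G := H5.mem_pResidual_of_coprime (by rw [hg3']; norm_num)
  have h8 : 8 ∣ Nat.card ↥A := hD ▸ Subgroup.card_dvd_of_le (le_inf hDP hDr)
  have h3 : 3 ∣ Nat.card ↥A := by
    have h := (Subgroup.orderOf_coe (⟨g, hg, hgr⟩ : ↥A)).dvd.trans (orderOf_dvd_natCard _)
    exact hg3' ▸ h
  have h24 : 24 ∣ Nat.card ↥A := Nat.Coprime.mul_dvd_of_dvd_of_dvd (m := 8) (n := 3) (by norm_num) h8 h3
  haveI := Fintype.ofFinite ↥A
  have hcard : Fintype.card (Equiv.Perm (Fin 4)) ≤ Fintype.card ↥A := by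
    rw [← Nat.card_eq_fintype_card (α := ↥A)]
    exact Nat.le_of_dvd Nat.card_pos h24
  exact ⟨MulEquiv.ofBijective π ((Fintype.bijective_iff_injective_and_card π).2
    ⟨hinj, le_antisymm (Fintype.card_le_of_injective π hinj) hcard⟩)⟩

end H16.ZN
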